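import Mathlib
import Cfsg.Agent.Lib.PGroup.NormalSquare

/-!
A four-group `U` of a 2-group `P` acting on a normal subgroup `T` such that every fixed point
subgroup `C_T(u)`, `u ∈ U`, has only one involution: then `T` has one involution, or `T` has a cyclic
subgroup of index two and some element outside `T` centralizes `T` and squares to the central
involution.
-/

set_option autoImplicit false
set_option linter.style.haveILetI false

namespace CfsgLib.GammaRankOne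

variable {P : Type*} [Group P]

/-- Any two commuting involutions of `S` are equal. -/
def OneInv (S : Subgroup P) : Prop :=
  ∀ a ∈ S, ∀ b ∈ S, a * a = 1 → a ≠ 1 → b * b = 1 → b ≠ 1 → Commute a b → a = b

theorem zp {m : P} {N : ℕ} (hm : orderOf m = N) {i j : ℤ} :
    m ^ i = m ^ j ↔ (N : ℤ) ∣ j - i := by
  rw [zpow_eq_zpow_iff_modEq, hm, Int.modEq_iff_dvd]

theorem zp_one {m : P} {N : ℕ} (hm : orderOf m = N) {i : ℤ} : m ^ i = 1 ↔ (N : ℤ) ∣ i := by
  rw [← hm, orderOf_dvd_iff_zpow_eq_one]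

theorem conj_zp {m x : P} {c : ℤ} (h : x * m * x⁻¹ = m ^ c) (i : ℤ) :
    x * m ^ i * x⁻¹ = m ^ (c * i) := by
  rw [← conj_zpow, h, ← zpow_mul]

theorem mul_left_eq {m x : P} {c : ℤ} (h : x * m * x⁻¹ = m ^ c) (i : ℤ) :
    x * m ^ i = m ^ (c * i) * x := by
  rw [← conj_zp h i]; group

/-- Square roots of one modulo `2 ^ (k+2)` are congruent to `± 1` modulo half. -/
theorem sqrt_one {k : ℕ} {a : ℤ} (h : (2:ℤ) ^ (k+2) ∣ a * a - 1) :
    (2:ℤ) ^ (k+1) ∣ a - 1 ∨ (2:ℤ) ^ (k+1) ∣ a + 1 := by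
  have hodd : Odd a := by
    rcases Int.even_or_odd a with ⟨b, hb⟩ | h'
    · exfalso
      have h2 : (2:ℤ) ∣ a * a - 1 := (dvd_pow_self 2 (by omega)).trans h
      have : (2:ℤ) ∣ a * a := ⟨2 * b * b, by rw [hb]; ring⟩
      have := dvd_sub this h2
      norm_num at this
    · exact h'
  obtain ⟨b, rfl⟩ := hodd
  have h' : (2:ℤ) ^ k ∣ b * (b + 1) := by
    have e : (2 * b + 1) * (2 * b + 1) - 1 = 4 * (b * (b + 1)) := by ring
    rw [e, pow_add, mul_comm ((2:ℤ)^k), show (2:ℤ)^2 = 4 by norm_num] at h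
    exact (mul_dvd_mul_iff_left (by norm_num)).1 h
  have hco : IsCoprime (b:ℤ) (b + 1) := ⟨-1, 1, by ring⟩
  rcases Int.even_or_odd b with hb | hb
  · left
    have : IsCoprime ((2:ℤ) ^ k) (b + 1) := by
      apply IsCoprime.pow_left
      obtain ⟨c, rfl⟩ := hb
      exact ⟨-c, 1, by ring⟩
    have hd := this.dvd_of_dvd_mul_right h'
    rw [show (2 * b + 1 - 1 : ℤ) = 2 * b by ring, pow_succ']
    exact mul_dvd_mul_left 2 hd
  · right
    have : IsCoprime ((2:ℤ) ^ k) b := by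
      apply IsCoprime.pow_left
      obtain ⟨c, rfl⟩ := hb
      exact ⟨-c, 1, by ring⟩
    have hd := this.dvd_of_dvd_mul_left h'
    rw [show (2 * b + 1 + 1 : ℤ) = 2 * (b + 1) by ring, pow_succ']
    exact mul_dvd_mul_left 2 hd

/-- A 2-power-order unit which is not a square root of one has a power congruent to `1 + half`. -/
theorem exists_pow_special {k : ℕ} {a : ℤ} (r : ℕ) (hr : (2:ℤ) ^ (k+2) ∣ a ^ (2 ^ r) - 1)
    (h : ¬ (2:ℤ) ^ (k+2) ∣ a * a - 1) :
    ∃ e : ℕ, (2:ℤ) ^ (k+2) ∣ a ^ e - (1 + 2 ^ (k+1)) ∧ 1 ≤ k := by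
  classical
  have hex : ∃ s, (2:ℤ) ^ (k+2) ∣ a ^ (2 ^ s) - 1 := ⟨r, hr⟩
  have hs := Nat.find_spec hex
  have hs2 : 2 ≤ Nat.find hex := by
    by_contra hlt
    apply h
    obtain e | e : Nat.find hex = 0 ∨ Nat.find hex = 1 := by omega
    · rw [e, pow_zero, pow_one] at hs
      rw [show a * a - 1 = (a - 1) * (a + 1) by ring]
      exact hs.mul_right _
    · rw [e, pow_one, sq] at hs; exact hs
  obtain ⟨s, hse⟩ : ∃ s, Nat.find hex = s + 2 := ⟨Nat.find hex - 2, by omega⟩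
  have hmin : ¬ (2:ℤ) ^ (k+2) ∣ a ^ (2 ^ (s+1)) - 1 := Nat.find_min hex (by omega)
  rw [hse] at hs
  refine ⟨2 ^ (s+1), ?_⟩
  obtain ⟨v, hv⟩ : ∃ v, a ^ (2 ^ (s+1)) = v * v := ⟨a ^ 2 ^ s, by rw [← pow_add, pow_succ]; ring_nf⟩
  have hbb : (2:ℤ) ^ (k+2) ∣ (v * v) * (v * v) - 1 := by
    rw [← hv, ← pow_add, ← two_mul, ← pow_succ']; exact hs
  rw [hv] at hmin ⊢
  have hvo : Odd v := by
    rcases Int.even_or_odd v with ⟨c, hc⟩ | h'
    · exfalso
      have h2 : (2:ℤ) ∣ v * v * (v * v) - 1 := (dvd_pow_self 2 (by omega)).trans hbb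
      have : (2:ℤ) ∣ v * v * (v * v) := ⟨c * v * v * v * 1, by rw [hc]; ring⟩
      have := dvd_sub this h2
      norm_num at this
    · exact h'
  have h8 : (8:ℤ) ∣ v * v - 1 := by
    obtain ⟨c, rfl⟩ := hvo
    obtain ⟨d, hd⟩ := Int.even_mul_succ_self c
    exact ⟨d, by linear_combination (4:ℤ) * hd⟩
  have hk : 1 ≤ k := by
    by_contra hk
    have hk0 : k = 0 := by omega
    subst hk0
    exact hmin ((show (2:ℤ) ^ (0+2) ∣ 8 by norm_num).trans h8)
  refine ⟨?_, hk⟩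
  rcases sqrt_one hbb with h1 | h1
  · obtain ⟨q, hq⟩ := h1
    rcases Int.even_or_odd q with ⟨d, hd⟩ | ⟨d, hd⟩
    · exfalso; apply hmin
      exact ⟨d, by rw [hq, hd]; ring⟩
    · exact ⟨d, by linear_combination hq + (2:ℤ) ^ (k+1) * hd⟩
  · exfalso
    have h4 : (4:ℤ) ∣ v * v + 1 :=
      ((show (4:ℤ) ∣ 2 ^ (k+1) from (show (4:ℤ) = 2 ^ 2 by norm_num) ▸ pow_dvd_pow 2 (by omega))).trans h1
    have h4' : (4:ℤ) ∣ v * v - 1 := (show (4:ℤ) ∣ 8 by norm_num).trans h8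
    have := dvd_sub h4 h4'
    norm_num at this

variable [Finite P]

theorem exists_mem_center_of_ne_bot (hP : IsPGroup 2 P) (D : Subgroup P) [D.Normal] (hD : D ≠ ⊥) :
    ∃ x ∈ D, x ∈ Subgroup.center P ∧ x ≠ 1 := by
  classical
  haveI : Fact (Nat.Prime 2) := ⟨Nat.prime_two⟩
  have : Fintype P := Fintype.ofFinite P
  have hne : Nontrivial D := (Subgroup.nontrivial_iff_ne_bot D).2 hD
  have h2 : 2 ∣ Nat.card D := by
    obtain ⟨k, hk⟩ := (hP.to_subgroup D).exists_card_eq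
    have hk0 : k ≠ 0 := fun h => by
      rw [h, pow_zero] at hk
      exact absurd (Finite.one_lt_card_iff_nontrivial.2 hne) (by omega)
    rw [hk]; exact dvd_pow_self 2 hk0
  let act : MulAction (ConjAct P) D := inferInstance
  have hC : IsPGroup 2 (ConjAct P) := hP.of_equiv ConjAct.toConjAct
  obtain ⟨b, hb, hb1⟩ := hC.exists_fixed_point_of_prime_dvd_card_of_fixed_point (α := D) h2
    (a := (1 : D)) (fun g => smul_one g)
  refine ⟨b, b.2, Subgroup.mem_center_iff.2 fun g => ?_, fun e => hb1 (Subtype.ext e.symm)⟩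
  have := congrArg Subtype.val (hb (ConjAct.toConjAct g))
  change g * (b : P) * g⁻¹ = b at this
  exact mul_inv_eq_iff_eq_mul.1 this

/-- Either `T` has an elementary normal four-subgroup of `P`, or `T` has one involution, or a
cyclic subgroup `⟨m⟩` of index two, normal in `P`, inverted (up to half) by an involution. -/
theorem structure_or_four (hP : IsPGroup 2 P) (T : Subgroup P) [hT : T.Normal] :
    (∃ z y : P, z ∈ T ∧ y ∈ T ∧ z ∈ Subgroup.center P ∧ z * z = 1 ∧ y * y = 1 ∧ z ≠ 1 ∧ y ≠ 1 ∧ y ≠ z ∧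
        ∀ p : P, p * y * p⁻¹ = y ∨ p * y * p⁻¹ = z * y) ∨
    OneInv T ∨
    ∃ (k : ℕ) (m y : P) (c : ℤ), orderOf m = 2 ^ (k+2) ∧ m ∈ T ∧ y ∈ T ∧ y ∉ Subgroup.zpowers m ∧
      (Subgroup.zpowers m).Normal ∧ y * y = 1 ∧ y * m * y⁻¹ = m ^ c ∧
      (c = -1 ∨ (1 ≤ k ∧ c = -1 + 2 ^ (k+1))) ∧
      (∀ t ∈ T, t ∈ Subgroup.zpowers m ∨ t * y⁻¹ ∈ Subgroup.zpowers m) := by
  classical
  haveI : Fact (Nat.Prime 2) := ⟨Nat.prime_two⟩
  obtain ⟨M, ⟨hMT, hMn, hMab⟩, hmax⟩ :=
    Set.Finite.exists_maximal (s := {M : Subgroup P | M ≤ T ∧ M.Normal ∧ IsMulCommutative M})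
      (Set.toFinite _) ⟨⊥, bot_le, inferInstance, inferInstance⟩
  haveI := hMn
  have hcomm : ∀ a ∈ M, ∀ b ∈ M, a * b = b * a := fun a ha b hb =>
    congrArg Subtype.val (hMab.is_comm.comm ⟨a, ha⟩ ⟨b, hb⟩)
  -- `M` is self-centralizing in `T`
  have hself : ∀ t ∈ T, (∀ a ∈ M, t * a = a * t) → t ∈ M := by
    by_contra hcon
    push Not at hcon
    obtain ⟨t, htT, htc, htM⟩ := hcon
    let C := T ⊓ Subgroup.centralizer (M : Set P)
    haveI : C.Normal := Subgroup.normal_inf_normal _ _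
    have htC : t ∈ C := ⟨htT, Subgroup.mem_centralizer_iff.2 fun a ha => (htc a ha).symm⟩
    haveI : (C.map (QuotientGroup.mk' M)).Normal :=
      Subgroup.Normal.map inferInstance _ (QuotientGroup.mk'_surjective M)
    have hne : C.map (QuotientGroup.mk' M) ≠ ⊥ := fun h => htM <| by
      have := Subgroup.mem_map_of_mem (QuotientGroup.mk' M) htC
      rw [h, Subgroup.mem_bot, QuotientGroup.mk'_apply, QuotientGroup.eq_one_iff] at this
      exact this
    obtain ⟨xb, hxb, hxc, hx1⟩ := exists_mem_center_of_ne_bot (hP.to_quotient M) _ hne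
    obtain ⟨l, hlC, rfl⟩ := hxb
    have hlM : l ∉ M := fun h => hx1 ((QuotientGroup.eq_one_iff l).2 h)
    have hlcent : ∀ a ∈ M, a * l = l * a := fun a ha => Subgroup.mem_centralizer_iff.1 hlC.2 a ha
    have hLn : (M ⊔ Subgroup.zpowers l).Normal := by
      refine ⟨fun x hx g => ?_⟩
      have hle : M ⊔ Subgroup.zpowers l ≤ (M ⊔ Subgroup.zpowers l).comap (MulAut.conj g).toMonoidHom := by
        refine sup_le (fun a ha => Subgroup.mem_comap.2 (Subgroup.mem_sup_left (hMn.conj_mem a ha g))) ?_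
        rw [Subgroup.zpowers_le]
        refine Subgroup.mem_comap.2 ?_
        have h := Subgroup.mem_center_iff.1 hxc (QuotientGroup.mk' M g)
        have : g * l * g⁻¹ * l⁻¹ ∈ M := by
          rw [← QuotientGroup.eq_one_iff]
          show QuotientGroup.mk' M (g * l * g⁻¹ * l⁻¹) = 1
          rw [map_mul, map_mul, map_mul, h, map_inv, map_inv]; group
        have e : g * l * g⁻¹ = (g * l * g⁻¹ * l⁻¹) * l := by group
        show g * l * g⁻¹ ∈ _
        rw [e]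
        exact mul_mem (Subgroup.mem_sup_left this) (Subgroup.mem_sup_right (Subgroup.mem_zpowers l))
      exact hle hx
    have hLab : IsMulCommutative ↥(M ⊔ Subgroup.zpowers l) := by
      rw [Subgroup.sup_eq_closure]
      apply Subgroup.isMulCommutative_closure
      rintro a (ha | ⟨i, rfl⟩) b (hb | ⟨j, rfl⟩)
      · exact hcomm a ha b hb
      · exact Commute.zpow_right (hlcent a ha : Commute a l) j
      · exact (Commute.zpow_right (hlcent b hb : Commute b l) i).symm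
      · exact Commute.zpow_zpow (Commute.refl l) i j
    have := hmax ⟨sup_le hMT (Subgroup.zpowers_le.2 hlC.1), hLn, hLab⟩ le_sup_left
    exact hlM (this (Subgroup.mem_sup_right (Subgroup.mem_zpowers l)))
  by_cases hfour : ∃ z y : P, z ∈ T ∧ y ∈ T ∧ z ∈ Subgroup.center P ∧ z * z = 1 ∧ y * y = 1 ∧ z ≠ 1 ∧
      y ≠ 1 ∧ y ≠ z ∧ ∀ p : P, p * y * p⁻¹ = y ∨ p * y * p⁻¹ = z * y
  · exact Or.inl hfour
  right
  -- `M` has at most one involution
  have hone : ∀ a ∈ M, ∀ b ∈ M, a * a = 1 → a ≠ 1 → b * b = 1 → b ≠ 1 → a = b := by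
    by_contra hcon
    push Not at hcon
    obtain ⟨a₀, ha₀, b₀, hb₀, ha2, ha1, hb2, hb1, hne⟩ := hcon
    apply hfour
    let W : Subgroup P :=
      { carrier := {x | x ∈ M ∧ x * x = 1}
        one_mem' := ⟨one_mem _, one_mul 1⟩
        mul_mem' := fun {a b} ha hb => ⟨mul_mem ha.1 hb.1, by
          rw [Commute.mul_mul_mul_comm (hcomm b hb.1 a ha.1 : Commute b a), ha.2, hb.2, one_mul]⟩
        inv_mem' := fun {a} ha => ⟨inv_mem ha.1, by rw [← mul_inv_rev, ha.2, inv_one]⟩ }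
    haveI : W.Normal := ⟨fun x hx g => ⟨hMn.conj_mem x hx.1 g, by
      rw [show g * x * g⁻¹ * (g * x * g⁻¹) = g * (x * x) * g⁻¹ by group, hx.2]; group⟩⟩
    obtain ⟨z, hzW, hzc, hz1⟩ := exists_mem_center_of_ne_bot hP W
      (fun h => ha1 ((Subgroup.eq_bot_iff_forall _).1 h a₀ ⟨ha₀, ha2⟩))
    let Z := Subgroup.zpowers z
    haveI : Z.Normal := ⟨fun x hx g => by
      have hx' : x ∈ Subgroup.center P := Subgroup.zpowers_le.2 hzc hx
      rw [Subgroup.mem_center_iff.1 hx' g, mul_inv_cancel_right]; exact hx⟩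
    have hZ : ∀ x ∈ Z, x = 1 ∨ x = z := by
      intro x hx
      obtain ⟨i, rfl⟩ := hx
      rcases Int.even_or_odd i with ⟨d, rfl⟩ | ⟨d, rfl⟩
      · left; simp only; rw [zpow_add, ← (Commute.refl z).mul_zpow, hzW.2, one_zpow]
      · right; simp only; rw [zpow_add, zpow_mul, zpow_two, hzW.2, one_zpow, zpow_one, one_mul]
    haveI : (W.map (QuotientGroup.mk' Z)).Normal :=
      Subgroup.Normal.map inferInstance _ (QuotientGroup.mk'_surjective Z)
    have hne' : W.map (QuotientGroup.mk' Z) ≠ ⊥ := by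
      intro h
      have hin : ∀ x ∈ W, x = 1 ∨ x = z := fun x hx => hZ x <| by
        have := Subgroup.mem_map_of_mem (QuotientGroup.mk' Z) hx
        rw [h, Subgroup.mem_bot, QuotientGroup.mk'_apply, QuotientGroup.eq_one_iff] at this
        exact this
      exact hne (((hin a₀ ⟨ha₀, ha2⟩).resolve_left ha1).trans ((hin b₀ ⟨hb₀, hb2⟩).resolve_left hb1).symm)
    obtain ⟨yb, hyb, hyc, hy1⟩ := exists_mem_center_of_ne_bot (hP.to_quotient Z) _ hne'
    obtain ⟨y, hyW, rfl⟩ := hyb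
    have hyZ : y ∉ Z := fun h => hy1 ((QuotientGroup.eq_one_iff y).2 h)
    refine ⟨z, y, hMT hzW.1, hMT hyW.1, hzc, hzW.2, hyW.2, hz1, fun h => hyZ (h ▸ one_mem _),
      fun h => hyZ (h ▸ Subgroup.mem_zpowers z), fun p => ?_⟩
    have h := Subgroup.mem_center_iff.1 hyc (QuotientGroup.mk' Z p)
    have : p * y * p⁻¹ * y⁻¹ ∈ Z := by
      rw [← QuotientGroup.eq_one_iff]
      show QuotientGroup.mk' Z (p * y * p⁻¹ * y⁻¹) = 1
      rw [map_mul, map_mul, map_mul, h, map_inv, map_inv]; group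
    rcases hZ _ this with e | e
    · exact Or.inl (mul_inv_eq_one.1 e)
    · exact Or.inr (mul_inv_eq_iff_eq_mul.1 e)
  -- hence `M` is cyclic
  haveI hcyc : IsCyclic M := by
    by_cases hinv : ∃ a : M, a ≠ 1 ∧ a * a = 1
    · letI : CommGroup M := { (inferInstance : Group M) with
        mul_comm := fun a b => Subtype.ext (hcomm a a.2 b b.2) }
      apply CfsgLib.PGroup39.isCyclic_of_omega_le (p := 2) (hP.to_subgroup M)
      obtain ⟨a, ha1, ha2⟩ := hinv
      calc Nat.card {g : M // g ^ 2 = 1} ≤ ({1, a} : Set M).ncard := by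
            rw [← Nat.card_coe_set_eq]
            refine Nat.card_le_card_of_injective (fun g => ⟨g.1, ?_⟩) (fun g h e => Subtype.ext (by simpa using e))
            by_cases hg : g.1 = 1
            · exact Or.inl hg
            · right
              exact Subtype.ext (hone g.1 g.1.2 a a.2
                (by have := congrArg Subtype.val g.2; simpa [pow_two] using this)
                (fun e => hg (Subtype.ext e)) (congrArg Subtype.val ha2) (fun e => ha1 (Subtype.ext e)))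
        _ ≤ 2 := (Set.ncard_insert_le _ _).trans (by simp)
    · haveI : Subsingleton M := by
        by_contra hns
        rw [not_subsingleton_iff_nontrivial] at hns
        apply hinv
        obtain ⟨k, hk⟩ := (hP.to_subgroup M).exists_card_eq
        have hk0 : k ≠ 0 := fun h => by
          rw [h, pow_zero] at hk
          exact absurd (Finite.one_lt_card_iff_nontrivial.2 hns) (by omega)
        obtain ⟨a, ha⟩ := exists_prime_orderOf_dvd_card' 2 (hk ▸ dvd_pow_self 2 hk0)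
        exact ⟨a, fun e => by rw [e, orderOf_one] at ha; omega, by rw [← pow_two, ← ha, pow_orderOf_eq_one]⟩
      infer_instance
  obtain ⟨m₀, hm₀⟩ := IsCyclic.exists_generator (α := M)
  obtain ⟨m, hm'⟩ : ∃ m : P, m = m₀ := ⟨_, rfl⟩
  have hmM : m ∈ M := hm' ▸ m₀.2
  have hgen : ∀ a ∈ M, ∃ i : ℤ, m ^ i = a := fun a ha => by
    obtain ⟨i, hi⟩ := hm₀ ⟨a, ha⟩
    exact ⟨i, by rw [hm']; simpa using congrArg Subtype.val hi⟩
  have hMz : M = Subgroup.zpowers m :=
    le_antisymm (fun a ha => hgen a ha) (Subgroup.zpowers_le.2 hmM)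
  -- an involution of `T` outside `M`, or one involution
  by_cases hy : ∀ y ∈ T, y * y = 1 → y ∈ M
  · exact Or.inl fun a ha b hb ha2 ha1 hb2 hb1 _ => hone a (hy a ha ha2) b (hy b hb hb2) ha2 ha1 hb2 hb1
  right
  push Not at hy
  obtain ⟨y, hyT, hy2, hyM⟩ := hy
  obtain ⟨n, hn⟩ := hP.exists_card_eq
  obtain ⟨j, -, hj⟩ := (Nat.dvd_prime_pow Nat.prime_two).1 (hn ▸ orderOf_dvd_natCard m)
  have hexp : ∀ t : P, ∃ a : ℤ, t * m * t⁻¹ = m ^ a := fun t => by
    obtain ⟨a, ha⟩ := hgen _ (hMn.conj_mem m hmM t); exact ⟨a, ha.symm⟩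
  have hexp_self : ∀ t ∈ T, t * m * t⁻¹ = m → t ∈ M := fun t htT ht => by
    refine hself t htT fun a ha => ?_
    obtain ⟨i, rfl⟩ := hgen a ha
    exact Commute.zpow_right (mul_inv_eq_iff_eq_mul.1 ht : Commute t m) i
  obtain ⟨c, hc⟩ := hexp y
  have hyy : y⁻¹ = y := inv_eq_of_mul_eq_one_right hy2
  have hiter : ∀ (t : P) (a : ℤ), t * m * t⁻¹ = m ^ a → ∀ e : ℕ, t ^ e * m * (t ^ e)⁻¹ = m ^ (a ^ e) := by
    intro t a ht e
    induction e with
    | zero => simp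
    | succ e ih =>
      rw [pow_succ' t, mul_inv_rev, pow_succ' a, ← conj_zp ht, ← ih]; group
  have hcN : ((2 ^ j : ℕ) : ℤ) ∣ c * c - 1 := by
    rw [← dvd_neg, neg_sub]
    refine (zp hj).1 ?_
    have := hiter y c hc 2
    rw [pow_two, hy2, pow_two] at this
    simpa using this.symm
  have hc1 : ¬ ((2 ^ j : ℕ) : ℤ) ∣ c - 1 := fun h => hyM <| hexp_self y hyT <| by
    rw [hc]; conv_rhs => rw [← zpow_one m]
    exact (zp hj).2 (by rw [← dvd_neg, neg_sub]; exact h)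
  have hj2 : 2 ≤ j := by
    by_contra hlt
    apply hc1
    rcases (show j = 0 ∨ j = 1 by omega) with rfl | rfl
    · simp
    · norm_num at hcN ⊢
      rcases Int.even_or_odd c with ⟨d, hd⟩ | ⟨d, hd⟩
      · exfalso
        have h' : (2:ℤ) ∣ c * c := ⟨d * c, by rw [hd]; ring⟩
        have := dvd_sub h' hcN
        norm_num at this
      · exact ⟨d, by omega⟩
  obtain ⟨k, rfl⟩ : ∃ k, j = k + 2 := ⟨j - 2, by omega⟩
  push_cast at hcN hc1
  have hN : ∀ {i i' : ℤ}, m ^ i = m ^ i' ↔ (2:ℤ) ^ (k+2) ∣ i' - i := fun {i i'} => by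
    rw [zp hj]; push_cast; rfl
  have hN1 : ∀ {i : ℤ}, m ^ i = 1 ↔ (2:ℤ) ^ (k+2) ∣ i := fun {i} => by
    rw [zp_one hj]; push_cast; rfl
  obtain ⟨h, hh⟩ : ∃ h : ℤ, h = 2 ^ (k+1) := ⟨_, rfl⟩
  have hN2 : (2:ℤ) ^ (k+2) = 2 * h := by rw [hh]; ring
  -- no element of `T` acts as `1 + h`
  have hspec : ∀ t ∈ T, ∀ a : ℤ, t * m * t⁻¹ = m ^ a → ¬ ((2:ℤ) ^ (k+2) ∣ a - (1 + h) ∧ 1 ≤ k) := by
    rintro t htT a hta ⟨ha, hk⟩
    have hta' : t * m * t⁻¹ = m ^ (1 + h) := by
      rw [hta, hN, ← dvd_neg, neg_sub]; exact ha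
    obtain ⟨g, hg⟩ : ∃ g : ℤ, g = 2 ^ k := ⟨_, rfl⟩
    have hhg : h = 2 * g := by rw [hh, hg]; ring
    have hgg : (2:ℤ) ^ (k+2) ∣ 2 * g * h := ⟨g, by rw [hN2]; ring⟩
    have ht2M : t * t ∈ M := by
      refine hexp_self _ (mul_mem htT htT) ?_
      have e := hiter t _ hta' 2
      rw [pow_two] at e
      rw [e]; conv_rhs => rw [← zpow_one m]
      rw [hN]
      exact ⟨-(1 + g), by rw [hN2, hhg]; ring⟩
    obtain ⟨q, hq⟩ := hgen _ ht2M
    have hqe : (2:ℤ) ∣ q := by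
      have e : t * (t * t) * t⁻¹ = t * t := by group
      rw [← hq, conj_zp hta', hN] at e
      obtain ⟨d, hd⟩ := e
      rw [hN2] at hd
      have hh0 : h ≠ 0 := by rw [hh]; positivity
      refine ⟨-d, mul_left_cancel₀ hh0 ?_⟩
      linear_combination -hd
    obtain ⟨i, rfl⟩ := hqe
    -- an involution in `M t`
    obtain ⟨x, hx⟩ : ∃ x : P, x = m ^ (-i * (1 - g)) * t := ⟨_, rfl⟩
    have hxT : x ∈ T := hx ▸ mul_mem (hMT (hMz ▸ ⟨_, rfl⟩)) htT
    have hxm : x * m * x⁻¹ = m ^ (1 + h) := by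
      rw [hx, show m ^ (-i * (1 - g)) * t * m * (m ^ (-i * (1 - g)) * t)⁻¹
        = m ^ (-i * (1 - g)) * (t * m * t⁻¹) * (m ^ (-i * (1 - g)))⁻¹ by group, hta', ← zpow_add,
        ← zpow_neg, ← zpow_add]
      congr 1; ring
    have hx2 : x * x = 1 := by
      rw [hx, show m ^ (-i * (1 - g)) * t * (m ^ (-i * (1 - g)) * t)
        = m ^ (-i * (1 - g)) * (t * m ^ (-i * (1 - g)) * t⁻¹) * (t * t) by group, conj_zp hta', ← hq,
        ← zpow_add, ← zpow_add, hN1]
      obtain ⟨d, hd⟩ : (2:ℤ) ∣ g := by rw [hg]; exact dvd_pow_self 2 (by omega)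
      exact ⟨i * d, by rw [hN2, hhg, hd]; ring⟩
    have hx1 : x ≠ 1 := fun e => by
      rw [e, one_mul, inv_one, mul_one] at hxm
      conv_lhs at hxm => rw [← zpow_one m]
      rw [hN, hN2, add_sub_cancel_left] at hxm
      obtain ⟨d, hd⟩ := hxm
      have hh0 : h ≠ 0 := by rw [hh]; positivity
      have : (1:ℤ) = 2 * d := mul_left_cancel₀ hh0 (by linear_combination hd)
      omega
    have hzh : ∀ i : ℤ, (2:ℤ) ∣ i → m ^ (h * i) = 1 := fun i hi => by
      obtain ⟨d, rfl⟩ := hi; rw [hN1]; exact ⟨d, by rw [hN2]; ring⟩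
    apply hfour
    refine ⟨m ^ h, x, hMT (hMz ▸ ⟨_, rfl⟩), hxT, ?_, ?_, hx2, ?_, hx1, ?_, ?_⟩
    · rw [Subgroup.mem_center_iff]
      intro p
      obtain ⟨b, hb⟩ := hexp p
      rw [mul_left_eq hb]
      congr 1
      rw [hN]
      -- exponents of automorphisms are odd
      have hbo : (2:ℤ) ∣ b - 1 := by
        rcases Int.even_or_odd b with ⟨d, hd⟩ | ⟨d, hd⟩
        · exfalso
          have : (p * m * p⁻¹) ^ h = 1 := by
            rw [hb, ← zpow_mul, mul_comm, hzh b ⟨d, by omega⟩]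
          rw [conj_zpow, conj_eq_one_iff, hN1, hN2] at this
          obtain ⟨e, he⟩ := this
          have hh0 : h ≠ 0 := by rw [hh]; positivity
          have : (1:ℤ) = 2 * e := mul_left_cancel₀ hh0 (by linear_combination he)
          omega
        · exact ⟨d, by omega⟩
      obtain ⟨d, hd⟩ := hbo
      exact ⟨-d, by rw [hN2]; linear_combination -h * hd⟩
    · rw [← zpow_add, hN1]; exact ⟨1, by rw [hN2]; ring⟩
    · rw [Ne, hN1, hN2]
      rintro ⟨e, he⟩
      have hh0 : h ≠ 0 := by rw [hh]; positivity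
      have : (1:ℤ) = 2 * e := mul_left_cancel₀ hh0 (by linear_combination he)
      omega
    · intro e
      rw [e] at hxm
      have : (m ^ h) * m * (m ^ h)⁻¹ = m ^ (1:ℤ) := by group
      rw [this, hN, hN2, add_sub_cancel_left] at hxm
      obtain ⟨d, hd⟩ := hxm
      have hh0 : h ≠ 0 := by rw [hh]; positivity
      have : (1:ℤ) = 2 * d := mul_left_cancel₀ hh0 (by linear_combination hd)
      omega
    · intro p
      obtain ⟨b, hb⟩ := hexp p
      have hconj : (p * x * p⁻¹) * x⁻¹ ∈ M := by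
        refine hexp_self _ (mul_mem (hT.conj_mem x hxT p) (inv_mem hxT)) ?_
        have hxinv : x⁻¹ = x := inv_eq_of_mul_eq_one_right hx2
        obtain ⟨b', hb'⟩ := hexp p⁻¹
        rw [inv_inv] at hb'
        have hbb : m ^ (b' * b) = m ^ (1:ℤ) := by
          rw [← conj_zp (x := p⁻¹) (by rw [inv_inv]; exact hb'), ← hb]; group
        rw [hxinv, show p * x * p⁻¹ * x * m * (p * x * p⁻¹ * x)⁻¹
          = p * (x * (p⁻¹ * (x * m * x⁻¹) * p⁻¹⁻¹) * x⁻¹) * p⁻¹ by group, hxm,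
          conj_zp (x := p⁻¹) (by rw [inv_inv]; exact hb'), conj_zp hxm, conj_zp hb]
        conv_rhs => rw [← zpow_one m]
        rw [hN] at hbb ⊢
        obtain ⟨d, hd⟩ := hbb
        exact ⟨d * (1+h) * (1+h) - (1 + g), by
          rw [hN2] at hd ⊢; linear_combination (1 + h) * (1 + h) * hd - h * hhg⟩
      obtain ⟨r, hr⟩ := hgen _ hconj
      have hr' : p * x * p⁻¹ = m ^ r * x := by rw [hr]; group
      have hsq : (m ^ r * x) * (m ^ r * x) = 1 := by
        rw [← hr', show p * x * p⁻¹ * (p * x * p⁻¹) = p * (x * x) * p⁻¹ by group, hx2]; group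
      have e2 : m ^ (r + (1 + h) * r) = 1 := by
        rw [zpow_add, ← conj_zp hxm, inv_eq_of_mul_eq_one_right hx2]
        rw [← hsq]; group
      rw [hN1, hN2] at e2
      obtain ⟨d, hd⟩ := e2
      -- `r (2 + h) ≡ 0`, so `h ∣ r`
      have hco : IsCoprime h (1 + g) := by
        rw [hh]
        apply IsCoprime.pow_left
        obtain ⟨e, he⟩ : (2:ℤ) ∣ g := by rw [hg]; exact dvd_pow_self 2 (by omega)
        exact ⟨-e, 1, by rw [he]; ring⟩
      have hhr : h ∣ r * (1 + g) := ⟨d, by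
        apply mul_left_cancel₀ (show (2:ℤ) ≠ 0 by norm_num)
        linear_combination hd - r * hhg⟩
      obtain ⟨e, he⟩ := hco.dvd_of_dvd_mul_right hhr
      rcases Int.even_or_odd e with ⟨d', hd'⟩ | ⟨d', hd'⟩
      · left
        rw [hr', hN1.2 ⟨d', by rw [hN2, he, hd']; ring⟩, one_mul]
      · right
        rw [hr']; congr 1
        rw [hN]; exact ⟨-d', by rw [hN2, he, hd']; ring⟩
  have hsq : ∀ t ∈ T, ∀ a : ℤ, t * m * t⁻¹ = m ^ a → (2:ℤ) ^ (k+2) ∣ a * a - 1 := by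
    intro t htT a hta
    by_contra hno
    obtain ⟨r, hr⟩ : ∃ r, t ^ (2 ^ r) = 1 := hP t
    have hr' : (2:ℤ) ^ (k+2) ∣ a ^ (2 ^ r) - 1 := by
      have e := hiter t a hta (2 ^ r)
      rw [hr, one_mul, inv_one, mul_one] at e
      conv_lhs at e => rw [← zpow_one m]
      exact hN.1 e
    obtain ⟨e, he, hk⟩ := exists_pow_special r hr' hno
    exact hspec (t ^ e) (pow_mem htT e) _ (hiter t a hta e) ⟨hh ▸ he, hk⟩
  -- normalise the exponent of `y`
  obtain ⟨c', hc', hc'ok⟩ : ∃ c' : ℤ, (2:ℤ) ^ (k+2) ∣ c - c' ∧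
      (c' = -1 ∨ (1 ≤ k ∧ c' = -1 + h)) := by
    rcases sqrt_one hcN with ⟨q, hq⟩ | ⟨q, hq⟩ <;> rw [← hh] at hq
    · rcases Int.even_or_odd q with ⟨d, hd⟩ | ⟨d, hd⟩
      · exact absurd ⟨d, by rw [hN2, hq, hd]; ring⟩ hc1
      · by_cases hk : 1 ≤ k
        · exact absurd ⟨⟨d, by rw [hN2]; linear_combination hq + h * hd⟩, hk⟩ (hspec y hyT c hc)
        · refine ⟨-1, ⟨d + 1, ?_⟩, Or.inl rfl⟩
          have hk0 : k = 0 := by omega
          subst hk0
          rw [hh] at hq; norm_num at hq ⊢; omega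
    · rcases Int.even_or_odd q with ⟨d, hd⟩ | ⟨d, hd⟩
      · exact ⟨-1, ⟨d, by rw [hN2]; linear_combination hq + h * hd⟩, Or.inl rfl⟩
      · by_cases hk : 1 ≤ k
        · exact ⟨-1 + h, ⟨d, by rw [hN2]; linear_combination hq + h * hd⟩, Or.inr ⟨hk, rfl⟩⟩
        · exfalso; apply hc1
          have hk0 : k = 0 := by omega
          subst hk0
          refine ⟨d, ?_⟩
          rw [hh] at hq; norm_num at hq ⊢; omega
  have hcy : y * m * y⁻¹ = m ^ c' := by rw [hc, hN, ← dvd_neg, neg_sub]; exact hc'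
  refine ⟨k, m, y, c', hj, hMT hmM, hyT, hMz ▸ hyM, hMz ▸ hMn, hy2, hcy, hh ▸ hc'ok, ?_⟩
  intro t htT
  rw [← hMz]
  obtain ⟨a, ha⟩ := hexp t
  have ha2 := hsq t htT a ha
  by_cases ha1 : (2:ℤ) ^ (k+2) ∣ a - 1
  · left
    refine hexp_self t htT ?_
    rw [ha]; conv_rhs => rw [← zpow_one m]
    rw [hN, ← dvd_neg, neg_sub]; exact ha1
  right
  have hty : t * y⁻¹ * m * (t * y⁻¹)⁻¹ = m ^ (c' * a) := by
    rw [hyy, show t * y * m * (t * y)⁻¹ = t * (y * m * y⁻¹) * t⁻¹ by group, hcy, conj_zp ha, mul_comm]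
  refine hexp_self _ (mul_mem htT (inv_mem hyT)) ?_
  rw [hty]; conv_rhs => rw [← zpow_one m]
  rw [hN]
  by_contra hno
  -- otherwise some element of `T` acts as `1 + h`
  rcases sqrt_one ha2 with ⟨q, hq⟩ | ⟨q, hq⟩ <;> rw [← hh] at hq <;>
    rcases Int.even_or_odd q with ⟨d, hd⟩ | ⟨d, hd⟩
  · exact ha1 ⟨d, by rw [hN2, hq, hd]; ring⟩
  · by_cases hk : 1 ≤ k
    · exact hspec t htT a ha ⟨⟨d, by rw [hN2]; linear_combination hq + h * hd⟩, hk⟩
    · have hk0 : k = 0 := by omega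
      subst hk0
      rcases hc'ok with rfl | ⟨hk', -⟩
      · apply hno; refine ⟨d + 1, ?_⟩
        rw [hh] at hq; norm_num at hq ⊢; omega
      · omega
  · rcases hc'ok with rfl | ⟨hk, rfl⟩
    · exact hno ⟨d, by rw [hN2]; linear_combination hq + h * hd⟩
    · refine hspec (t * y⁻¹) (mul_mem htT (inv_mem hyT)) _ hty ⟨⟨d * (-1 + h) - 1, ?_⟩, hk⟩
      rw [hN2]; linear_combination (-1 + h) * hq + (-1 + h) * h * hd
  · rcases hc'ok with rfl | ⟨hk, rfl⟩
    · by_cases hk : 1 ≤ k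
      · refine hspec (t * y⁻¹) (mul_mem htT (inv_mem hyT)) _ hty ⟨⟨-d - 1, ?_⟩, hk⟩
        rw [hN2]; linear_combination (-1:ℤ) * hq - h * hd
      · have hk0 : k = 0 := by omega
        subst hk0
        apply ha1; refine ⟨d, ?_⟩
        rw [hh] at hq; norm_num at hq ⊢; omega
    · apply hno
      obtain ⟨g, hg⟩ : (2:ℤ) ∣ h := by rw [hh]; exact dvd_pow_self 2 (by omega)
      refine ⟨-(g * (2 * d + 1) - d - 1), ?_⟩
      rw [hN2]; linear_combination (1 - h) * hq + (1 - h) * h * hd - h * (2 * d + 1) * hg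

/-- The outcome of the action lemma at a distinguished element `u`. -/
structure Twist (T : Subgroup P) (u : P) where
  M : Subgroup P
  z : P
  y : P
  w : P
  hMT : M ≤ T
  hyT : y ∈ T
  hyM : y ∉ M
  hcov : ∀ t ∈ T, t ∈ M ∨ t * y⁻¹ ∈ M
  hy2 : y * y = 1
  hzM : z ∈ M
  hz2 : z * z = 1
  hz1 : z ≠ 1
  hinv : ∀ x ∈ M, x * x = 1 → x = 1 ∨ x = z
  hsq : ∀ t ∈ T, t * t ∈ M
  huT : u ∉ T
  hw : u⁻¹ * w ∈ T
  hwc : ∀ t ∈ T, Commute w t
  hw2 : w * w = z

/-- The action lemma. -/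
theorem exists_twist (hP : IsPGroup 2 P) (T : Subgroup P) [hT : T.Normal] {u₁ u₂ : P}
    (h1 : u₁ * u₁ = 1) (h2 : u₂ * u₂ = 1) (h12 : Commute u₁ u₂)
    (hC : ∀ u ∈ ({u₁, u₂, u₁ * u₂} : Set P), OneInv (T ⊓ Subgroup.centralizer ({u} : Set P))) :
    OneInv T ∨ ∃ u ∈ ({u₁, u₂, u₁ * u₂} : Set P), Nonempty (Twist T u) := by
  classical
  have hmemC : ∀ {u x : P}, x ∈ T → u * x * u⁻¹ = x → x ∈ T ⊓ Subgroup.centralizer ({u} : Set P) :=
    fun {u x} hx h => ⟨hx, Subgroup.mem_centralizer_singleton_iff.2 (mul_inv_eq_iff_eq_mul.1 h).symm⟩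
  have hu2 : ∀ u ∈ ({u₁, u₂, u₁ * u₂} : Set P), u * u = 1 := by
    rintro u (rfl | rfl | rfl)
    · exact h1
    · exact h2
    · rw [h12.symm.mul_mul_mul_comm, h1, h2, one_mul]
  rcases structure_or_four hP T with ⟨z, y, hzT, hyT, hzc, hz2, hy2, hz1, hy1, hyz, hpy⟩ | h | hs
  · exfalso
    have hcontra : ∀ u ∈ ({u₁, u₂, u₁ * u₂} : Set P), u * y * u⁻¹ ≠ y := by
      intro u hu h
      have hzu : u * z * u⁻¹ = z := by rw [Subgroup.mem_center_iff.1 hzc u, mul_inv_cancel_right]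
      exact hyz (hC u hu y (hmemC hyT h) z (hmemC hzT hzu) hy2 hy1 hz2 hz1
        (Subgroup.mem_center_iff.1 hzc y))
    have e1 := (hpy u₁).resolve_left (hcontra u₁ (by simp))
    have e2 := (hpy u₂).resolve_left (hcontra u₂ (by simp))
    apply hcontra (u₁ * u₂) (by simp)
    calc u₁ * u₂ * y * (u₁ * u₂)⁻¹ = u₁ * (u₂ * y * u₂⁻¹) * u₁⁻¹ := by group
      _ = (u₁ * z * u₁⁻¹) * (u₁ * y * u₁⁻¹) := by rw [e2]; group
      _ = z * (z * y) := by rw [e1, Subgroup.mem_center_iff.1 hzc u₁, mul_inv_cancel_right]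
      _ = y := by rw [← mul_assoc, hz2, one_mul]
  · exact Or.inl h
  obtain ⟨k, m, y, c, hm, hmT, hyT, hyM, hMn, hy2, hcy, hcok, hcov⟩ := hs
  right
  haveI := hMn
  have hN : ∀ {i i' : ℤ}, m ^ i = m ^ i' ↔ (2:ℤ) ^ (k+2) ∣ i' - i := fun {i i'} => by
    rw [zp hm]; push_cast; rfl
  have hN1 : ∀ {i : ℤ}, m ^ i = 1 ↔ (2:ℤ) ^ (k+2) ∣ i := fun {i} => by
    rw [zp_one hm]; push_cast; rfl
  obtain ⟨g, hg⟩ : ∃ g : ℤ, g = 2 ^ k := ⟨_, rfl⟩
  obtain ⟨h, hh⟩ : ∃ h : ℤ, h = 2 ^ (k+1) := ⟨_, rfl⟩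
  rw [← hh] at hcok
  have hhg : h = 2 * g := by rw [hh, hg]; ring
  have hN2 : (2:ℤ) ^ (k+2) = 2 * h := by rw [hh]; ring
  rw [hN2] at hN hN1
  have hh0 : h ≠ 0 := by rw [hh]; positivity
  have hMle : Subgroup.zpowers m ≤ T := Subgroup.zpowers_le.2 hmT
  -- involutions of `⟨m⟩`
  obtain ⟨z, hz⟩ : ∃ z, z = m ^ h := ⟨_, rfl⟩
  have hzM : z ∈ Subgroup.zpowers m := hz ▸ ⟨h, rfl⟩
  have hz2 : z * z = 1 := by rw [hz, ← zpow_add, hN1]; exact ⟨1, by ring⟩
  have hz1 : z ≠ 1 := by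
    rw [hz, Ne, hN1]
    rintro ⟨e, he⟩
    have : (1:ℤ) = 2 * e := mul_left_cancel₀ hh0 (by linear_combination he)
    omega
  have hinv : ∀ x ∈ Subgroup.zpowers m, x * x = 1 → x = 1 ∨ x = z := by
    rintro _ ⟨i, rfl⟩ hi
    simp only at hi ⊢
    rw [← zpow_add, hN1] at hi
    obtain ⟨d, hd⟩ := hi
    have hid : i = h * d := by linarith
    rcases Int.even_or_odd d with ⟨e, he⟩ | ⟨e, he⟩
    · left; rw [hN1]; exact ⟨e, by rw [hid, he]; ring⟩
    · right; rw [hz, hN]; exact ⟨-e, by rw [hid, he]; ring⟩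
  have hzc : ∀ p : P, p * z * p⁻¹ = z := fun p => by
    refine ((hinv _ (hMn.conj_mem z hzM p) ?_).resolve_left fun e => hz1 (conj_eq_one_iff.1 e))
    rw [show p * z * p⁻¹ * (p * z * p⁻¹) = p * (z * z) * p⁻¹ by group, hz2]; group
  have hsq : ∀ t ∈ T, t * t ∈ Subgroup.zpowers m := by
    intro t ht
    rcases hcov t ht with h' | ⟨i, hi⟩
    · exact mul_mem h' h'
    · have e : t = m ^ i * y := by
        have hi' : m ^ i = t * y⁻¹ := hi
        rw [hi']; group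
      refine ⟨i + c * i, ?_⟩
      simp only
      rw [zpow_add, ← conj_zp hcy, e, inv_eq_of_mul_eq_one_right hy2]; group
  -- outer involutions of `T` are moved by every `u`
  have hmove : ∀ u ∈ ({u₁, u₂, u₁ * u₂} : Set P), ∀ i : ℤ, (2 * h) ∣ i * (1 + c) →
      u * (m ^ i * y) * u⁻¹ ≠ m ^ i * y := by
    intro u hu i hi e
    have hx2 : m ^ i * y * (m ^ i * y) = 1 := by
      rw [show m ^ i * y * (m ^ i * y) = m ^ i * (y * m ^ i * y⁻¹) * (y * y) by group, conj_zp hcy, hy2,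
        mul_one, ← zpow_add, hN1, show i + c * i = i * (1 + c) by ring]
      exact hi
    have hxT : m ^ i * y ∈ T := mul_mem (hMle ⟨i, rfl⟩) hyT
    have hxM : m ^ i * y ∉ Subgroup.zpowers m := fun h' =>
      hyM ((Subgroup.mul_mem_cancel_left _ (⟨i, rfl⟩ : m ^ i ∈ Subgroup.zpowers m)).1 h')
    have := hC u hu _ (hmemC hxT e) z (hmemC (hMle hzM) (hzc u)) hx2 (fun h' => hxM (h' ▸ one_mem _))
      hz2 hz1 (mul_inv_eq_iff_eq_mul.1 (hzc (m ^ i * y)) : Commute (m ^ i * y) z)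
    exact hxM (this ▸ hzM)
  -- the distinguished elements
  have hgood : ∀ u ∈ ({u₁, u₂, u₁ * u₂} : Set P),
      Nonempty (Twist T u) ∨ (∃ a : ℤ, u * m * u⁻¹ = m ^ a ∧ 2 * h ∣ a * a - 1 ∧
        ((c = -1 ∧ 2 * h ∣ a + 1) ∨ (1 ≤ k ∧ c = -1 + h ∧ (2 * h ∣ a + 1 ∨ 2 * h ∣ a - (1 + h))))) := by
    intro u hu
    obtain ⟨a, ha⟩ := hMn.conj_mem m (Subgroup.mem_zpowers m) u
    simp only at ha
    have ha' : u * m * u⁻¹ = m ^ a := ha.symm
    have huu := hu2 u hu
    have haa : 2 * h ∣ a * a - 1 := by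
      have e : m ^ (a * a) = m := by
        rw [← conj_zp ha', ← ha', show u * (u * m * u⁻¹) * u⁻¹ = (u * u) * m * (u * u)⁻¹ by group, huu]
        group
      conv_rhs at e => rw [← zpow_one m]
      rw [hN] at e; rw [← dvd_neg, neg_sub]; exact e
    obtain ⟨b, hb⟩ : u * y * u⁻¹ * y⁻¹ ∈ Subgroup.zpowers m := by
      rcases hcov _ (hT.conj_mem y hyT u) with h' | h'
      · exfalso; apply hyM
        have := hMn.conj_mem _ h' u⁻¹
        simpa [mul_assoc] using this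
      · exact h'
    simp only at hb
    have hb' : u * y * u⁻¹ = m ^ b * y := by rw [hb]; group
    have hbi : 2 * h ∣ b * (1 + c) := by
      rw [← hN1, show b * (1 + c) = b + c * b by ring, zpow_add, ← conj_zp hcy,
        inv_eq_of_mul_eq_one_right hy2]
      calc m ^ b * (y * m ^ b * y) = (m ^ b * y) * (m ^ b * y) := by group
        _ = u * (y * y) * u⁻¹ := by rw [← hb']; group
        _ = 1 := by rw [hy2]; group
    have hba : 2 * h ∣ b * (a + 1) := by
      rw [← hN1, show b * (a + 1) = a * b + b by ring, zpow_add, ← conj_zp ha', hb,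
        show u * (u * y * u⁻¹ * y⁻¹) * u⁻¹ * (u * y * u⁻¹ * y⁻¹) = (u * u) * y * (u * u)⁻¹ * y⁻¹ by group,
        huu]
      group
    have huT : u ∉ T := by
      intro h'
      have huC : u ∈ T ⊓ Subgroup.centralizer ({u} : Set P) := hmemC h' (mul_inv_cancel_right _ _)
      by_cases hu1 : u = 1
      · exact hmove u hu 0 (by simp) (by rw [hu1]; group)
      · have := hC u hu u huC z (hmemC (hMle hzM) (hzc u)) huu hu1 hz2 hz1
          (mul_inv_eq_iff_eq_mul.1 (hzc u) : Commute u z)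
        apply hmove u hu 0 (by simp)
        have hzy : y * z * y⁻¹ = z := hzc y
        rw [this, zpow_zero, one_mul]
        nth_rewrite 1 [← hzy]
        group
    -- a twist from an element of `T` inducing the action of `u`
    have htw : ∀ q ∈ T, q * m * q⁻¹ = m ^ a → q * y * q⁻¹ = m ^ b * y → Commute u q → q * q = z →
        Nonempty (Twist T u) := by
      intro q hq hqm hqy huq hq2
      have hwc : ∀ t ∈ T, Commute (u * q⁻¹) t := by
        have key : ∀ x, q * x * q⁻¹ = u * x * u⁻¹ → Commute (u * q⁻¹) x := by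
          intro x hx
          have hq' : u * q⁻¹ = q⁻¹ * u := huq.inv_right
          have : (u * q⁻¹) * x * (u * q⁻¹)⁻¹ = x := by
            rw [hq', show q⁻¹ * u * x * (q⁻¹ * u)⁻¹ = q⁻¹ * (u * x * u⁻¹) * q by group, ← hx]; group
          exact mul_inv_eq_iff_eq_mul.1 this
        have hm' := key m (hqm.trans ha'.symm)
        have hy' := key y (hqy.trans hb'.symm)
        intro t ht
        rcases hcov t ht with ⟨i, rfl⟩ | ⟨i, hi⟩
        · exact hm'.zpow_right i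
        · have e : t = m ^ i * y := by
            have hi' : m ^ i = t * y⁻¹ := hi
            rw [hi']; group
          exact e ▸ (hm'.zpow_right i).mul_right hy'
      refine ⟨⟨Subgroup.zpowers m, z, y, u * q⁻¹, hMle, hyT, hyM, hcov, hy2, hzM, hz2, hz1, hinv, hsq, huT,
        by rw [inv_mul_cancel_left]; exact inv_mem hq, hwc, ?_⟩⟩
      rw [(huq.inv_right).symm.mul_mul_mul_comm, huu, one_mul, ← mul_inv_rev, hq2,
        inv_eq_of_mul_eq_one_right hz2]
    have hfix : ∀ i : ℤ, 2 * h ∣ i * (1 + c) → ¬ 2 * h ∣ i * (a - 1) + b := by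
      intro i hi hf
      apply hmove u hu i hi
      rw [show u * (m ^ i * y) * u⁻¹ = (u * m ^ i * u⁻¹) * (u * y * u⁻¹) by group, conj_zp ha', hb',
        ← mul_assoc, ← zpow_add]
      congr 1
      rw [hN, ← dvd_neg, show -(i - (a * i + b)) = i * (a - 1) + b by ring]
      exact hf
    have hg0 : g ≠ 0 := by rw [hg]; positivity
    -- action trivial on `⟨m⟩`
    have hone : 2 * h ∣ a - 1 → Nonempty (Twist T u) := by
      rintro ⟨d, hd⟩
      obtain ⟨e, he⟩ : h ∣ b := by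
        obtain ⟨e, he⟩ := hba
        have hac : a = 1 + 2 * h * d := by linarith
        subst hac
        exact ⟨e - b * d, by linarith [show 2 * (b - h * (e - b * d)) = 0 by linear_combination he]⟩
      rcases Int.even_or_odd e with ⟨e', he'⟩ | ⟨e', he'⟩
      · exact absurd (show 2 * h ∣ b from ⟨e', by rw [he, he']; ring⟩)
          (fun h' => hfix 0 (by simp) (by simpa using h'))
      · refine htw (m ^ g) (hMle ⟨g, rfl⟩) ?_ ?_ ?_ ?_
        · rw [show m ^ g * m * (m ^ g)⁻¹ = m ^ (1:ℤ) by group, hN]; exact ⟨d, hd⟩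
        · rw [show m ^ g * y * (m ^ g)⁻¹ = m ^ g * (y * (m ^ g)⁻¹ * y⁻¹) * y by group, ← zpow_neg,
            conj_zp hcy, ← zpow_add]
          congr 1
          rw [hN]
          rcases hcok with rfl | ⟨hk, rfl⟩
          · exact ⟨e', by rw [he, he', hhg]; ring⟩
          · obtain ⟨q, hq⟩ : (2:ℤ) ∣ g := by rw [hg]; exact dvd_pow_self 2 (by omega)
            exact ⟨e' + q, by rw [he, he', hhg, hq]; ring⟩
        · refine mul_inv_eq_iff_eq_mul.1 (?_ : u * m ^ g * u⁻¹ = m ^ g)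
          rw [conj_zp ha', hN]; exact ⟨-(d * g), by linear_combination -g * hd⟩
        · rw [← zpow_add, hz, hhg, two_mul]
    rcases sqrt_one (k := k) (hN2 ▸ haa) with ⟨q, hq⟩ | ⟨q, hq⟩ <;> rw [← hh] at hq <;>
      rcases Int.even_or_odd q with ⟨d, hd⟩ | ⟨d, hd⟩
    · exact Or.inl (hone ⟨d, by rw [hq, hd]; ring⟩)
    · -- `a ≡ 1 + h`
      rcases hcok with rfl | ⟨hk, hc⟩
      · rcases Nat.eq_zero_or_pos k with hk0 | hk0
        · refine Or.inr ⟨a, ha', haa, Or.inl ⟨rfl, ?_⟩⟩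
          subst hk0
          rw [hh] at hq ⊢; norm_num at hq ⊢
          exact ⟨d + 1, by omega⟩
        · exfalso
          obtain ⟨e, he⟩ : h ∣ b := by
            have hco : IsCoprime h (1 + g) := by
              rw [hh]; apply IsCoprime.pow_left
              obtain ⟨e, he⟩ : (2:ℤ) ∣ g := by rw [hg]; exact dvd_pow_self 2 (by omega)
              exact ⟨-e, 1, by rw [he]; ring⟩
            refine hco.dvd_of_dvd_mul_right ?_
            obtain ⟨e, he⟩ := hba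
            refine ⟨e - b * d, mul_left_cancel₀ (show (2:ℤ) ≠ 0 by norm_num) ?_⟩
            linear_combination he - b * hq - b * h * hd - b * hhg
          refine hfix e (by simp) ⟨e * (d + 1), ?_⟩
          linear_combination e * hq + e * h * hd + he
      · exact Or.inr ⟨a, ha', haa, Or.inr ⟨hk, hc, Or.inr ⟨d, by linear_combination hq + h * hd⟩⟩⟩
    · -- `a ≡ -1`
      rcases hcok with rfl | ⟨hk, hc⟩
      · exact Or.inr ⟨a, ha', haa, Or.inl ⟨rfl, d, by rw [hq, hd]; ring⟩⟩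
      · exact Or.inr ⟨a, ha', haa, Or.inr ⟨hk, hc, Or.inl ⟨d, by rw [hq, hd]; ring⟩⟩⟩
    · -- `a ≡ -1 + h`
      rcases Nat.eq_zero_or_pos k with hk0 | hk0
      · left; apply hone
        subst hk0
        rw [hh] at hq ⊢; norm_num at hq ⊢
        exact ⟨d, by omega⟩
      obtain ⟨r, hr⟩ : (2:ℤ) ∣ g := by rw [hg]; exact dvd_pow_self 2 (by omega)
      obtain ⟨e, he⟩ : (2:ℤ) ∣ b := by
        obtain ⟨e, he⟩ := hba
        refine ⟨e - b * d, mul_left_cancel₀ hh0 ?_⟩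
        linear_combination he - b * hq - b * h * hd
      rcases hcok with rfl | ⟨-, rfl⟩
      · exfalso
        refine hfix (e * (1 + g)) (by simp) ⟨e * ((1 + g) * d + r), ?_⟩
        linear_combination e * (1 + g) * hq + e * (1 + g) * h * hd + he + e * (1 + g) * hhg
          + 2 * e * g * hr - 2 * e * r * hhg
      · rcases Int.even_or_odd e with ⟨e', he'⟩ | ⟨e', he'⟩
        · exfalso
          refine hfix (e * (1 + g)) ⟨e' * (1 + g), by rw [he']; ring⟩ ⟨e * ((1 + g) * d + r), ?_⟩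
          linear_combination e * (1 + g) * hq + e * (1 + g) * h * hd + he + e * (1 + g) * hhg
            + 2 * e * g * hr - 2 * e * r * hhg
        · left
          have hj : Odd (e * (1 + g)) := by
            exact Odd.mul ⟨e', he'⟩ ⟨r, by rw [hr]; ring⟩
          obtain ⟨j', hj'⟩ := hj
          refine htw (m ^ (e * (1 + g)) * y) (mul_mem (hMle ⟨_, rfl⟩) hyT) ?_ ?_ ?_ ?_
          · rw [show m ^ (e * (1+g)) * y * m * (m ^ (e * (1+g)) * y)⁻¹
              = m ^ (e * (1+g)) * (y * m * y⁻¹) * (m ^ (e * (1+g)))⁻¹ by group, hcy, ← zpow_add,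
              ← zpow_neg, ← zpow_add, hN]
            exact ⟨d, by linear_combination hq + h * hd⟩
          · rw [show m ^ (e * (1+g)) * y * y * (m ^ (e * (1+g)) * y)⁻¹
              = m ^ (e * (1+g)) * (y * (m ^ (e * (1+g)))⁻¹ * y⁻¹) * y * (y * y⁻¹) by group,
              mul_inv_cancel, mul_one, ← zpow_neg, conj_zp hcy, ← zpow_add]
            congr 1
            rw [hN]
            exact ⟨e * r, by linear_combination he + e * (1 + g) * hhg + 2 * e * g * hr - 2 * e * r * hhg⟩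
          · refine mul_inv_eq_iff_eq_mul.1 (?_ : u * (m ^ (e * (1+g)) * y) * u⁻¹ = m ^ (e * (1+g)) * y)
            rw [show u * (m ^ (e * (1+g)) * y) * u⁻¹ = (u * m ^ (e * (1+g)) * u⁻¹) * (u * y * u⁻¹) by group,
              conj_zp ha', hb', ← mul_assoc, ← zpow_add]
            congr 1
            rw [hN]
            refine ⟨-(e * ((1 + g) * d + r)), ?_⟩
            linear_combination -(e * (1 + g)) * hq - e * (1 + g) * h * hd - he - e * (1 + g) * hhg
              - 2 * e * g * hr + 2 * e * r * hhg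
          · rw [show m ^ (e * (1+g)) * y * (m ^ (e * (1+g)) * y)
              = m ^ (e * (1+g)) * (y * m ^ (e * (1+g)) * y⁻¹) * (y * y) by group, conj_zp hcy, hy2, mul_one,
              ← zpow_add, hz, hN]
            exact ⟨-j', by linear_combination -h * hj'⟩
  by_contra hno
  push Not at hno
  obtain ⟨a₁, ha₁, haa₁, hb₁⟩ := (hgood u₁ (by simp)).resolve_left (not_nonempty_iff.2 (hno u₁ (by simp)))
  obtain ⟨a₂, ha₂, -, hb₂⟩ := (hgood u₂ (by simp)).resolve_left (not_nonempty_iff.2 (hno u₂ (by simp)))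
  obtain ⟨a₃, ha₃, -, hb₃⟩ :=
    (hgood (u₁ * u₂) (by simp)).resolve_left (not_nonempty_iff.2 (hno (u₁ * u₂) (by simp)))
  have hprod : 2 * h ∣ a₃ - a₁ * a₂ := by
    rw [← hN, ← conj_zp ha₁] at *
    rw [← ha₂, ← ha₃]; group
  -- in both cases the product acts trivially or as `c`
  obtain ⟨d₃, hd₃⟩ := hprod
  rcases hb₁ with ⟨hc, d₁, hd₁⟩ | ⟨hk, hc, hb₁⟩
  · rcases hb₂ with ⟨-, d₂, hd₂⟩ | ⟨-, hc', -⟩
    swap
    · omega
    rcases hb₃ with ⟨-, d, hd⟩ | ⟨-, hc', -⟩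
    swap
    · omega
    -- `2 ≡ 0`
    have h2 : (2:ℤ) * h ∣ 2 := ⟨d - d₃ - (a₁ * d₂ - d₁), by linear_combination hd - hd₃ - a₁ * hd₂ + hd₁⟩
    have : h ∣ (1:ℤ) := by
      obtain ⟨e, he⟩ := h2
      exact ⟨e, by linarith⟩
    have := Int.eq_one_of_dvd_one (by rw [hh]; positivity) this
    have h2' : (2:ℤ) ∣ h := hh ▸ dvd_pow_self 2 (by omega)
    omega
  · rcases hb₂ with ⟨hc', -⟩ | ⟨-, -, hb₂⟩
    · omega
    rcases hb₃ with ⟨hc', -⟩ | ⟨-, -, hb₃⟩
    · omega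
    obtain ⟨r, hr⟩ : (2:ℤ) ∣ g := by rw [hg]; exact dvd_pow_self 2 (by omega)
    -- the product of two bad exponents is `1` or `-1 + h`
    have hv : 2 * h ∣ a₁ * a₂ - 1 ∨ 2 * h ∣ a₁ * a₂ - (-1 + h) := by
      rcases hb₁ with ⟨d₁, hd₁⟩ | ⟨d₁, hd₁⟩ <;> rcases hb₂ with ⟨d₂, hd₂⟩ | ⟨d₂, hd₂⟩
      · exact Or.inl ⟨-d₂ + a₂ * d₁, by linear_combination a₂ * hd₁ - hd₂⟩
      · exact Or.inr ⟨a₂ * d₁ - d₂ - 1, by linear_combination a₂ * hd₁ - hd₂⟩
      · exact Or.inr ⟨a₁ * d₂ - d₁ - 1, by linear_combination a₁ * hd₂ - hd₁⟩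
      · exact Or.inl ⟨a₂ * d₁ + (1 + h) * d₂ + 1 + g, by
          linear_combination a₂ * hd₁ + (1 + h) * hd₂ + h * hhg⟩
    have hle4 : (4:ℤ) ≤ h := by
      rw [hh]
      calc (4:ℤ) = 2 ^ 2 := by norm_num
        _ ≤ 2 ^ (k+1) := pow_le_pow_right₀ (by norm_num) (by omega)
    have hn2 : ¬ (2 * h ∣ 2) := fun hd => by
      have := Int.le_of_dvd (by norm_num) hd
      omega
    have hnh : ¬ (2 * h ∣ h) := fun hd => by
      have := Int.le_of_dvd (by omega) hd
      omega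
    rcases hv with ⟨v, hv⟩ | ⟨v, hv⟩ <;> rcases hb₃ with ⟨d, hd⟩ | ⟨d, hd⟩
    · exact hn2 ⟨d - d₃ - v, by linear_combination hd - hd₃ - hv⟩
    · exact hnh ⟨-(d - d₃ - v), by linear_combination -hd + hd₃ + hv⟩
    · exact hnh ⟨d - d₃ - v, by linear_combination hd - hd₃ - hv⟩
    · exact hn2 ⟨-(d - d₃ - v), by linear_combination -hd + hd₃ + hv⟩

end CfsgLib.GammaRankOne
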