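import Cfsg.Agent.Lib.GammaRankOne.Two
import Cfsg.Agent.Lib.Transfer.Basic
import Cfsg.Agent.Lib.Involutions.Fusion
import Cfsg.Prelude.Def_CaseTheorems

/-!
A normal subgroup `A` without subgroups of index two, acted on by a four-group whose fixed point
subgroups have only one involution, has 2-rank at most one.
-/

set_option autoImplicit false
set_option linter.style.haveILetI false

namespace CfsgLib.GammaRankOne

variable {H : Type*} [Group H] [Finite H]

theorem oneInv_of_rank {S : Subgroup H} (h : Cfsg.PRankLE 2 1 S) : OneInv S := by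
  classical
  intro a ha b hb ha2 ha1 hb2 hb1 hab
  by_contra hne
  let B := Subgroup.closure ({⟨a, ha⟩, ⟨b, hb⟩} : Set S)
  have hc : (⟨a, ha⟩ : S) * ⟨b, hb⟩ = ⟨b, hb⟩ * ⟨a, ha⟩ := Subtype.ext hab.eq
  haveI hB : IsMulCommutative B := Subgroup.isMulCommutative_closure <| by
    rintro x (rfl | rfl) y (rfl | rfl)
    · rfl
    · exact hc
    · exact hc.symm
    · rfl
  have hsq : ∀ x ∈ B, x ^ 2 = 1 := by
    intro x hx
    induction hx using Subgroup.closure_induction with
    | mem x hx =>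
      rcases hx with rfl | rfl
      · exact Subtype.ext (by simpa [pow_two] using ha2)
      · exact Subtype.ext (by simpa [pow_two] using hb2)
    | one => exact one_pow 2
    | mul x y hx hy hx' hy' =>
      have : Commute x y := congrArg Subtype.val (hB.is_comm.comm ⟨x, hx⟩ ⟨y, hy⟩)
      rw [this.mul_pow, hx', hy', one_mul]
    | inv x _ hx' => rw [inv_pow, hx', inv_one]
  have hle : Nat.card B ≤ 2 := by simpa using h B hB hsq
  have h3 : 3 ≤ Nat.card B := by
    have hsub : ({1, ⟨a, ha⟩, ⟨b, hb⟩} : Set S) ⊆ (B : Set S) := by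
      rintro x (rfl | rfl | rfl)
      · exact one_mem _
      · exact Subgroup.subset_closure (Or.inl rfl)
      · exact Subgroup.subset_closure (Or.inr rfl)
    have hcard : ({1, ⟨a, ha⟩, ⟨b, hb⟩} : Set S).ncard = 3 :=
      Set.ncard_eq_three.2 ⟨_, _, _, fun e => ha1 (congrArg Subtype.val e).symm,
        fun e => hb1 (congrArg Subtype.val e).symm, fun e => hne (congrArg Subtype.val e), rfl⟩
    have := Set.ncard_le_ncard hsub (Set.toFinite _)
    rwa [hcard, ← Nat.card_coe_set_eq] at this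
  omega

omit [Finite H] in
theorem OneInv.of_le {S S' : Subgroup H} (h : OneInv S) (hle : S' ≤ S) : OneInv S' :=
  fun a ha b hb => h a (hle ha) b (hle hb)

theorem rank_of_oneInv {S : Subgroup H} (h : OneInv S) : Cfsg.PRankLE 2 1 S := by
  intro B hB hsq
  by_cases hb : ∃ b ∈ B, b ≠ 1
  · obtain ⟨b, hbB, hb1⟩ := hb
    have hsub : (B : Set S) ⊆ {1, b} := by
      intro x hx
      by_cases hx1 : x = 1
      · exact Or.inl hx1
      · right
        have hc : (x : H) * b = b * x := by
          have := congrArg Subtype.val (hB.is_comm.comm ⟨x, hx⟩ ⟨b, hbB⟩)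
          exact congrArg Subtype.val this
        exact Subtype.ext (h x x.2 b b.2
          (by simpa [pow_two] using congrArg Subtype.val (hsq x hx)) (fun e => hx1 (Subtype.ext e))
          (by simpa [pow_two] using congrArg Subtype.val (hsq b hbB)) (fun e => hb1 (Subtype.ext e)) hc)
    calc Nat.card B = (B : Set S).ncard := (Nat.card_coe_set_eq _)
      _ ≤ ({1, b} : Set S).ncard := Set.ncard_le_ncard hsub (Set.toFinite _)
      _ ≤ 2 ^ 1 := (Set.ncard_insert_le _ _).trans (by simp)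
  · push Not at hb
    rw [(Subgroup.eq_bot_iff_forall B).2 hb, Subgroup.card_bot]; norm_num

/-- Conjugation into a fixed Sylow subgroup. -/
theorem oneInv_of_sylow (A : Subgroup H) (S : Sylow 2 A)
    (h : OneInv ((S : Subgroup A).map A.subtype)) : OneInv A := by
  intro a ha b hb ha2 ha1 hb2 hb1 hab
  have hc : (⟨a, ha⟩ : A) * ⟨b, hb⟩ = ⟨b, hb⟩ * ⟨a, ha⟩ := Subtype.ext hab.eq
  let B := Subgroup.closure ({⟨a, ha⟩, ⟨b, hb⟩} : Set A)
  haveI hB : IsMulCommutative B := Subgroup.isMulCommutative_closure <| by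
    rintro x (rfl | rfl) y (rfl | rfl)
    · rfl
    · exact hc
    · exact hc.symm
    · rfl
  have hBp : IsPGroup 2 B := by
    intro x
    refine ⟨1, ?_⟩
    have : ∀ y ∈ B, y ^ 2 = 1 := by
      intro y hy
      induction hy using Subgroup.closure_induction with
      | mem y hy =>
        rcases hy with rfl | rfl
        · exact Subtype.ext (by simpa [pow_two] using ha2)
        · exact Subtype.ext (by simpa [pow_two] using hb2)
      | one => exact one_pow 2
      | mul x y hx hy hx' hy' =>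
        have : Commute x y := congrArg Subtype.val (hB.is_comm.comm ⟨x, hx⟩ ⟨y, hy⟩)
        rw [this.mul_pow, hx', hy', one_mul]
      | inv x _ hx' => rw [inv_pow, hx', inv_one]
    exact Subtype.ext (by simpa using this x x.2)
  haveI : Fact (Nat.Prime 2) := ⟨Nat.prime_two⟩
  obtain ⟨g, hg⟩ := CfsgLib.Involutions.exists_conj_le_sylow hBp S
  have hga := hg _ (Subgroup.subset_closure (Or.inl rfl))
  have hgb := hg _ (Subgroup.subset_closure (Or.inr rfl))
  have key := h _ (Subgroup.mem_map_of_mem _ hga) _ (Subgroup.mem_map_of_mem _ hgb)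
  simp only [Subgroup.coe_subtype, Subgroup.coe_mul, Subgroup.coe_inv] at key
  have e : ∀ x : H, (g : H) * x * (g : H)⁻¹ * ((g : H) * x * (g : H)⁻¹) = (g : H) * (x * x) * (g : H)⁻¹ :=
    fun x => by group
  have := key (by rw [e, ha2]; group) (fun h' => ha1 (conj_eq_one_iff.1 h')) (by rw [e, hb2]; group)
    (fun h' => hb1 (conj_eq_one_iff.1 h')) ((Commute.conj_iff (g : H)).2 hab)
  exact mul_left_cancel (mul_right_cancel this)

/-- The Sylow subgroup of a normal subgroup inside a given Sylow subgroup. -/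
def sylowIn (A : Subgroup H) [A.Normal] (P : Sylow 2 H) : Sylow 2 A where
  toSubgroup := (P : Subgroup H).subgroupOf A
  isPGroup' := P.2.comap_subtype
  is_maximal' := by
    intro R hR hle
    classical
    haveI : Fact (Nat.Prime 2) := ⟨Nat.prime_two⟩
    obtain ⟨g, hg⟩ := CfsgLib.Involutions.exists_conj_le_sylow (hR.map A.subtype) P
    let f : R → ((P : Subgroup H).subgroupOf A) := fun r =>
      ⟨⟨g * ((r : A) : H) * g⁻¹, ‹A.Normal›.conj_mem _ (r : A).2 g⟩, hg _ ⟨r, r.2, rfl⟩⟩
    have hf : Function.Injective f := fun a b e => by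
      have : g * ((a : A) : H) * g⁻¹ = g * ((b : A) : H) * g⁻¹ :=
        congrArg (fun t : ((P : Subgroup H).subgroupOf A) => ((t : A) : H)) e
      exact Subtype.ext (Subtype.ext (mul_left_cancel (mul_right_cancel this)))
    exact (Subgroup.eq_of_le_of_card_ge hle (Nat.card_le_card_of_injective f hf)).symm

/-- A twist contradicts the absence of subgroups of index two. -/
theorem false_of_twist (A : Subgroup H) [A.Normal] (hA : ∀ N : Subgroup A, N.Normal → N.index ≠ 2)
    (P : Sylow 2 H) (u : ↥(P : Subgroup H)) (hu2 : (u : H) * u = 1)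
    (D : Twist (A.subgroupOf (P : Subgroup H)) u) : False := by
  classical
  haveI : Fact (Nat.Prime 2) := ⟨Nat.prime_two⟩
  obtain ⟨M, z, y, w, hMT, hyT, hyM, hcov, hy2, hzM, hz2, hz1, hinv, hsq, huT, hw, hwc, hw2⟩ := D
  let T : Sylow 2 A := sylowIn A P
  have hT : ∀ x : A, x ∈ (T : Subgroup A) ↔ (x : H) ∈ (P : Subgroup H) := fun x => Iff.rfl
  -- `y` is fused to `z` in `A`
  let Q : Subgroup A := (M.map (P : Subgroup H).subtype).subgroupOf A
  have hQi : Q.relIndex (T : Subgroup A) = 2 := by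
    rw [← Subgroup.relIndex_map_map_of_injective _ _ A.subtype_injective]
    have e1 : Q.map A.subtype = M.map (P : Subgroup H).subtype := by
      rw [Subgroup.map_subgroupOf_eq_of_le]
      rintro _ ⟨x, hx, rfl⟩; exact hMT hx
    have e2 : (T : Subgroup A).map A.subtype = (A.subgroupOf (P : Subgroup H)).map (P : Subgroup H).subtype := by
      ext x
      constructor
      · rintro ⟨a, ha, rfl⟩; exact ⟨⟨a, (hT a).1 ha⟩, a.2, rfl⟩
      · rintro ⟨a, ha, rfl⟩; exact ⟨⟨a, ha⟩, (hT _).2 a.2, rfl⟩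
    rw [e1, e2, Subgroup.relIndex_map_map_of_injective _ _ (P : Subgroup H).subtype_injective]
    refine Subgroup.index_eq_two_iff.2 ⟨⟨y, hyT⟩, fun b => ?_⟩
    have hyy : (y : ↥(P : Subgroup H))⁻¹ = y := inv_eq_of_mul_eq_one_right hy2
    rcases hcov b b.2 with hb | hb
    · refine Or.inr ⟨hb, fun h' => hyM ?_⟩
      have h'' : (b : ↥(P : Subgroup H)) * y ∈ M := h'
      exact (Subgroup.mul_mem_cancel_left _ hb).1 h''
    · rw [hyy] at hb
      refine Or.inl ⟨hb, fun h' => hyM ?_⟩
      exact (Subgroup.mul_mem_cancel_left _ (Subgroup.mem_subgroupOf.1 h' : (b : ↥(P : Subgroup H)) ∈ M)).1 hb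
  obtain ⟨g, hgT, hgQ⟩ : ∃ g : A, g * ⟨((y : ↥(P : Subgroup H)) : H), hyT⟩ * g⁻¹ ∈ (T : Subgroup A) ∧
      g * ⟨((y : ↥(P : Subgroup H)) : H), hyT⟩ * g⁻¹ ∈ Q := by
    by_contra hno
    push Not at hno
    obtain ⟨N, hN, hNi, -⟩ := CfsgLib.Transfer.thompson_transfer T Q hQi ⟨((y : ↥(P : Subgroup H)) : H), hyT⟩
      (Subtype.ext (by simpa [pow_two] using congrArg Subtype.val hy2)) hno
    exact hA N hN hNi
  have hy1 : y ≠ 1 := fun e => hyM (e ▸ one_mem _)
  have hgy : (g : H) * y * (g : H)⁻¹ = z := by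
    obtain ⟨x, hx, hxe⟩ := Subgroup.mem_subgroupOf.1 hgQ
    simp only [Subgroup.coe_subtype, Subgroup.coe_mul, Subgroup.coe_inv] at hxe
    rcases hinv x hx (Subtype.ext (by
      rw [Subgroup.coe_mul, hxe, Subgroup.coe_one,
        show (g : H) * y * (g : H)⁻¹ * ((g : H) * y * (g : H)⁻¹) = (g : H) * ((y : H) * y) * (g : H)⁻¹ by group,
        show (y : H) * y = 1 from congrArg Subtype.val hy2]
      group)) with rfl | rfl
    · exfalso
      rw [Subgroup.coe_one] at hxe
      exact hy1 (Subtype.ext (conj_eq_one_iff.1 hxe.symm))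
    · exact hxe.symm
  -- the 2-group `T ⟨u⟩` and the centraliser of `z` in `A ⟨u⟩`
  let K : Subgroup H := A ⊔ Subgroup.zpowers (u : H)
  let L : Subgroup H := K ⊓ Subgroup.centralizer ({((z : ↥(P : Subgroup H)) : H)} : Set H)
  let P0 : Subgroup H := (P : Subgroup H) ⊓ K
  have hK : ∀ x ∈ K, x ∈ A ∨ x * (u : H)⁻¹ ∈ A := by
    intro x hx
    obtain ⟨a, ha, v, ⟨i, rfl⟩, rfl⟩ := Subgroup.mem_sup_of_normal_left.1 hx
    rcases Int.even_or_odd i with ⟨d, rfl⟩ | ⟨d, rfl⟩
    · left
      simp only [zpow_add, ← (Commute.refl (u : H)).mul_zpow, hu2, one_zpow, mul_one]; exact ha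
    · right
      simp only [zpow_add, zpow_mul, zpow_two, hu2, one_zpow, one_mul, zpow_one, mul_inv_cancel_right]
      exact ha
  have hwA : (w : H) ∉ A := fun h' => huT <| by
    show (u : H) ∈ A
    have h'' : (u : H)⁻¹ * w ∈ A := hw
    have := mul_mem h' (inv_mem h'')
    rwa [mul_inv_rev, inv_inv, mul_inv_cancel_left] at this
  have hwK : (w : H) ∈ K := by
    have h' : (u : H)⁻¹ * w ∈ A := hw
    have := mul_mem (Subgroup.mem_sup_right (Subgroup.mem_zpowers (u : H)) : (u : H) ∈ K)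
      (Subgroup.mem_sup_left h')
    rwa [mul_inv_cancel_left] at this
  -- every element of `P0` is in `T` or `T w`
  have hP0 : ∀ x : ↥(P : Subgroup H), (x : H) ∈ K → (x : H) ∈ A ∨ (x : H) * (w : H)⁻¹ ∈ A := by
    intro x hx
    rcases hK x hx with h' | h'
    · exact Or.inl h'
    · right
      have h'' : (u : H)⁻¹ * w ∈ A := hw
      have := mul_mem h' (‹A.Normal›.conj_mem _ (inv_mem h'') u)
      convert this using 1
      group
  have hzc : ∀ x : ↥(P : Subgroup H), (x : H) ∈ K → Commute x z := by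
    intro x hx
    have hwz : Commute w z := hwc z (hMT hzM)
    have htz : ∀ t ∈ A.subgroupOf (P : Subgroup H), Commute t z := fun t ht =>
      hw2 ▸ (hwc t ht).symm.mul_right (hwc t ht).symm
    rcases hP0 x hx with h' | h'
    · exact htz x h'
    · have := (htz (x * w⁻¹) h').mul_left hwz
      rwa [inv_mul_cancel_right] at this
  have hP0L : P0 ≤ L := by
    rintro x ⟨hxP, hxK⟩
    refine ⟨hxK, Subgroup.mem_centralizer_singleton_iff.2 ?_⟩
    exact (congrArg Subtype.val (hzc ⟨x, hxP⟩ hxK).eq)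
  have hP0p : IsPGroup 2 P0 := P.2.to_le inf_le_left
  let S0 : Sylow 2 L :=
    { toSubgroup := P0.subgroupOf L
      isPGroup' := hP0p.comap_subtype
      is_maximal' := by
        intro R hR hle
        refine le_antisymm (fun x hx => ?_) hle
        -- the part in `A` is a 2-group containing the Sylow subgroup `T`
        let R' : Subgroup A := (R.map L.subtype).subgroupOf A
        have hR' : IsPGroup 2 R' := (hR.map L.subtype).comap_subtype
        have hTR : (T : Subgroup A) ≤ R' := by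
          intro a ha
          have ha0 : (a : H) ∈ P0 := ⟨(hT a).1 ha, Subgroup.mem_sup_left a.2⟩
          exact ⟨⟨a, hP0L ha0⟩, hle ha0, rfl⟩
        have hRT : R' = (T : Subgroup A) := T.is_maximal' hR' hTR
        have key : ∀ v : L, v ∈ R → (v : H) ∈ A → (v : H) ∈ (P : Subgroup H) := fun v hv hvA =>
          (hT ⟨v, hvA⟩).1 (hRT ▸ (⟨v, hv, rfl⟩ : (⟨v, hvA⟩ : A) ∈ R'))
        refine ⟨?_, x.2.1⟩
        rcases hK x x.2.1 with h' | h'
        · exact key x hx h'
        · have huP : (u : H) ∈ P0 := ⟨u.2, Subgroup.mem_sup_right (Subgroup.mem_zpowers _)⟩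
          have hu' : (⟨u, hP0L huP⟩ : L) ∈ R := hle huP
          have := mul_mem (key (x * ⟨u, hP0L huP⟩⁻¹) (mul_mem hx (inv_mem hu')) h') u.2
          simp only [Subgroup.coe_mul, Subgroup.coe_inv, inv_mul_cancel_right] at this
          exact this }
  -- move `⟨y, w⟩` by `g`, then into `P0`
  have hyw : Commute w y := hwc y hyT
  let X : Subgroup H := Subgroup.closure ({((y : ↥(P : Subgroup H)) : H), (w : H)} : Set H)
  have hXp : IsPGroup 2 X := P.2.to_le <| (Subgroup.closure_le (P : Subgroup H)).2 <| by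
    rintro x (rfl | rfl)
    · exact y.2
    · exact w.2
  have hXg : X.map (MulAut.conj (g : H)).toMonoidHom ≤ L := by
    rw [Subgroup.map_le_iff_le_comap, Subgroup.closure_le]
    rintro x hx
    show (g : H) * x * (g : H)⁻¹ ∈ L
    refine Subgroup.mem_inf.2 ⟨?_, Subgroup.mem_centralizer_singleton_iff.2 ?_⟩
    · have hgK : (g : H) ∈ K := Subgroup.mem_sup_left g.2
      refine mul_mem (mul_mem hgK ?_) (inv_mem hgK)
      rcases hx with rfl | rfl
      · exact Subgroup.mem_sup_left hyT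
      · exact hwK
    · have hc : Commute x ((y : ↥(P : Subgroup H)) : H) := by
        rcases hx with rfl | rfl
        · exact Commute.refl _
        · exact congrArg Subtype.val hyw.eq
      rw [← hgy]
      exact ((Commute.conj_iff (g : H)).2 hc).eq
  have hX' : IsPGroup 2 ((X.map (MulAut.conj (g : H)).toMonoidHom).subgroupOf L) :=
    (hXp.map _).comap_subtype
  obtain ⟨k, hk⟩ := CfsgLib.Involutions.exists_conj_le_sylow hX' S0
  obtain ⟨q, hq⟩ : ∃ q, q = (k : H) * g := ⟨_, rfl⟩
  have hq' : ∀ x ∈ X, q * x * q⁻¹ ∈ P0 := by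
    intro x hx
    have := hk ⟨(g : H) * x * (g : H)⁻¹, hXg ⟨x, hx, rfl⟩⟩ ⟨x, hx, rfl⟩
    have h' : (k : H) * ((g : H) * x * (g : H)⁻¹) * (k : H)⁻¹ ∈ P0 := this
    rw [hq]; convert h' using 1; group
  have hqy : q * y * q⁻¹ = z := by
    have hkz : (k : H) * z * (k : H)⁻¹ = z := by
      rw [Subgroup.mem_centralizer_singleton_iff.1 k.2.2, mul_inv_cancel_right]
    rw [hq, show (k : H) * g * y * ((k : H) * g)⁻¹ = (k : H) * ((g : H) * y * (g : H)⁻¹) * (k : H)⁻¹ by group,
      hgy, hkz]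
  obtain ⟨hsP, hsK⟩ := hq' _ (Subgroup.subset_closure (Or.inr rfl))
  obtain ⟨s, hs⟩ : ∃ s : ↥(P : Subgroup H), s = ⟨q * (w : H) * q⁻¹, hsP⟩ := ⟨_, rfl⟩
  have hzA : (z : H) ∈ A := hMT hzM
  have hs2 : ((s * s : ↥(P : Subgroup H)) : H) = q * z * q⁻¹ := by
    rw [hs, ← congrArg Subtype.val hw2]
    simp only [Subgroup.coe_mul]; group
  have hss : s * s ∈ M := by
    rcases hP0 s (hs ▸ hsK) with h' | h'
    · exfalso
      apply hwA
      have := ‹A.Normal›.conj_mem _ h' q⁻¹
      rw [hs] at this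
      convert this using 1
      simp only; group
    · -- `s = t w`
      obtain ⟨t, ht⟩ : ∃ t : ↥(P : Subgroup H), t = s * w⁻¹ := ⟨_, rfl⟩
      have htT : t ∈ A.subgroupOf (P : Subgroup H) := ht ▸ h'
      have hst : s = t * w := by rw [ht, inv_mul_cancel_right]
      rw [hst, (hwc t htT).mul_mul_mul_comm, hw2]
      exact mul_mem (hsq t htT) hzM
  have hsz : s * s * (s * s) = 1 := Subtype.ext <| by
    rw [Subgroup.coe_mul, hs2, Subgroup.coe_one,
      show q * (z : H) * q⁻¹ * (q * z * q⁻¹) = q * ((z : H) * z) * q⁻¹ by group,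
      show (z : H) * z = 1 from congrArg Subtype.val hz2]
    group
  rcases hinv _ hss hsz with e | e
  · rw [e, Subgroup.coe_one] at hs2
    exact hz1 (Subtype.ext (conj_eq_one_iff.1 hs2.symm))
  · rw [e] at hs2
    have : (y : H) = z := mul_left_cancel (mul_right_cancel (hqy.trans hs2))
    exact hyM (Subtype.ext this ▸ hzM)

theorem main (A : Subgroup H) [A.Normal] (hA : ∀ N : Subgroup A, N.Normal → N.index ≠ 2)
    (U : Subgroup H) (hU : IsKleinFour U)
    (hC : ∀ u ∈ U, u ≠ 1 → OneInv (A ⊓ Subgroup.centralizer ({u} : Set H))) :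
    OneInv A := by
  classical
  haveI : Fact (Nat.Prime 2) := ⟨Nat.prime_two⟩
  haveI := hU
  have hUp : IsPGroup 2 U := IsPGroup.of_card (n := 2) (by rw [IsKleinFour.card_four]; norm_num)
  obtain ⟨P, hP⟩ := hUp.exists_le_sylow
  obtain ⟨x, hx1⟩ : ∃ x : U, x ≠ 1 := by
    haveI : Nontrivial U := Finite.one_lt_card_iff_nontrivial.1 (by rw [IsKleinFour.card_four]; norm_num)
    exact exists_ne 1
  obtain ⟨y, hy1, hyx⟩ : ∃ y : U, y ≠ 1 ∧ y ≠ x := by
    by_contra hno
    push Not at hno
    have hsub : (Set.univ : Set U) ⊆ {1, x} := fun y _ => by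
      by_cases h : y = 1
      · exact Or.inl h
      · exact Or.inr (hno y h)
    have := (Set.ncard_le_ncard hsub (Set.toFinite _)).trans (Set.ncard_insert_le _ _)
    rw [Set.ncard_univ, IsKleinFour.card_four, Set.ncard_singleton] at this
    omega
  have hxy : x * y ≠ 1 := fun h => hyx (by
    rw [mul_eq_one_iff_eq_inv] at h
    rw [h, IsKleinFour.inv_eq_self])
  let u₁ : ↥(P : Subgroup H) := ⟨x, hP x.2⟩
  let u₂ : ↥(P : Subgroup H) := ⟨y, hP y.2⟩
  have hsqU : ∀ a : U, (a : H) * a = 1 := fun a => congrArg Subtype.val (IsKleinFour.mul_self a)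
  have hmem : ∀ u ∈ ({u₁, u₂, u₁ * u₂} : Set ↥(P : Subgroup H)),
      ∃ a : U, a ≠ 1 ∧ (u : H) = a := by
    rintro u (rfl | rfl | rfl)
    · exact ⟨x, hx1, rfl⟩
    · exact ⟨y, hy1, rfl⟩
    · exact ⟨x * y, hxy, rfl⟩
  have hcases := exists_twist P.2 (A.subgroupOf (P : Subgroup H)) (u₁ := u₁) (u₂ := u₂)
    (Subtype.ext (hsqU x)) (Subtype.ext (hsqU y))
    (Subtype.ext (show (x : H) * y = y * x from congrArg Subtype.val (show x * y = y * x by
      have h := IsKleinFour.mul_self (x * y)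
      rw [mul_eq_one_iff_eq_inv, mul_inv_rev, IsKleinFour.inv_eq_self, IsKleinFour.inv_eq_self] at h
      exact h)))
    (fun u hu => by
      obtain ⟨a, ha1, hae⟩ := hmem u hu
      intro p hp q hq hp2 hp1 hq2 hq1 hpq
      have conv : ∀ p ∈ A.subgroupOf (P : Subgroup H) ⊓ Subgroup.centralizer ({u} : Set ↥(P : Subgroup H)),
          (p : H) ∈ A ⊓ Subgroup.centralizer ({(a : H)} : Set H) := fun p hp =>
        ⟨hp.1, Subgroup.mem_centralizer_singleton_iff.2 (by
          rw [← hae]; exact congrArg Subtype.val (Subgroup.mem_centralizer_singleton_iff.1 hp.2))⟩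
      exact Subtype.ext (hC a a.2 (fun h => ha1 (Subtype.ext h)) _ (conv p hp) _ (conv q hq)
        (congrArg Subtype.val hp2) (fun h => hp1 (Subtype.ext h))
        (congrArg Subtype.val hq2) (fun h => hq1 (Subtype.ext h)) (congrArg Subtype.val hpq.eq)))
  rcases hcases with hone | ⟨u, hu, ⟨D⟩⟩
  · refine oneInv_of_sylow A (sylowIn A P) ?_
    intro p hp q hq hp2 hp1 hq2 hq1 hpq
    obtain ⟨p', hp', rfl⟩ := hp
    obtain ⟨q', hq', rfl⟩ := hq
    exact congrArg (fun t : ↥(P : Subgroup H) => (t : H)) (hone ⟨p', hp'⟩ p'.2 ⟨q', hq'⟩ q'.2 (Subtype.ext hp2)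
      (fun h => hp1 (congrArg Subtype.val h)) (Subtype.ext hq2) (fun h => hq1 (congrArg Subtype.val h))
      (Subtype.ext hpq.eq))
  · obtain ⟨a, -, hae⟩ := hmem u hu
    exact (false_of_twist A hA P u (by rw [hae]; exact hsqU a) D).elim

end CfsgLib.GammaRankOne
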